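import Groth.Agent.QfSlice.Slice
import Groth.Agent.ASt.RepDesc
import Groth.Agent.ASt.SrcDesc
import Groth.Agent.ASt.PtsMor
import Groth.Agent.DecSec.GerbeCrit2
/-!
A quasi-DM stack has a flat, locally quasi-finite scheme cover.
-/

set_option autoImplicit false
set_option backward.isDefEq.respectTransparency false
set_option backward.isDefEq.respectTransparency.types false
set_option linter.unusedSectionVars false
set_option linter.style.haveILetI false

universe u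

open CategoryTheory CategoryTheory.Limits AlgebraicGeometry Opposite

namespace Groth.Agent.QfSlice

open Groth.Agent.ASt Groth.Agent.ASp Groth.Agent.KPointChart

variable {S : Scheme.{u}} {𝒳 : AlgSt.Cat S} [h𝒳 : FibCat.IsFibGrpd 𝒳.p] {U Z : Over S}
  {a : FibCat.overCat U ⥤ᵇ 𝒳} {q : Z ⟶ U}

/-- The class of an isomorphism with a value of the restricted chart. -/
noncomputable def toQ {T : Over S} {g : T ⟶ U} {z : T ⟶ Z} (b : IsoG a g (z ≫ q)) :
    ClType (FibCat.fp a (BasedFunctor.comp (AlgSt.overMap q) a)) T :=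
  fpEl g (ov z) rfl b.hom (b.vert.trans rfl)

theorem fpHom_toQ {T : Over S} {g : T ⟶ U} {z : T ⟶ Z} (b : IsoG a g (z ≫ q)) : fpHom (toQ b) = g :=
  fpHom_fpEl _ _ _ _ _

theorem clMap_toQ {T T' : Over S} {g : T ⟶ U} {z : T ⟶ Z} (r : T' ⟶ T) {g' : T' ⟶ U} {z' : T' ⟶ Z}
    (e : r ≫ g = g') (e' : r ≫ z = z') (e'' : r ≫ z ≫ q = z' ≫ q) (b : IsoG a g (z ≫ q)) :
    clMap r (toQ b) = toQ (IsoG.res r e e'' b) :=
  clMap_fpEl r e (ovHom r e') (by
    change a.map (ovHom r e) ≫ b.hom = (IsoG.res r e e'' b).hom ≫ a.map ((Over.map q).map (ovHom r e'))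
    rw [show (Over.map q).map (ovHom r e') = ovHom r e'' from Over.OverMorphism.ext rfl]
    exact (IsoG.res_comp r e e'' b).symm)

theorem exists_toQ {T : Over S} (c : ClType (FibCat.fp a (BasedFunctor.comp (AlgSt.overMap q) a)) T) :
    ∃ (g : T ⟶ U) (z : T ⟶ Z) (b : IsoG a g (z ≫ q)), toQ b = c := by
  obtain ⟨g, o, ho, φ, hφ, rfl⟩ := fpEl_exists c
  obtain ⟨z, m, hm⟩ : ∃ (z : T ⟶ Z) (m : o ⟶ ov z), m.left = eqToHom ho :=
    ⟨eqToHom ho.symm ≫ o.hom, Over.homMk (eqToHom ho) (by simp), rfl⟩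
  exact ⟨g, z, ⟨φ ≫ (BasedFunctor.comp (AlgSt.overMap q) a).map m, by
      rw [Functor.map_comp, hφ, map_w, show (FibCat.overCat Z).p.map m = _ from hm]
      simp⟩,
    (fpEl_eq_iff.2 ⟨m, hm, rfl⟩).symm⟩

theorem toQ_eq {T : Over S} {g h : T ⟶ U} {z z' : T ⟶ Z} {b : IsoG a g (z ≫ q)} {b' : IsoG a h (z' ≫ q)}
    (e : toQ b = toQ b') :
    ∃ (e₁ : g = h) (e₂ : z = z'),
      IsoG.res (𝟙 T) ((Category.id_comp g).trans e₁) ((Category.id_comp _).trans (congrArg (· ≫ q) e₂)) b = b' := by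
  obtain rfl : g = h := (fpHom_toQ b).symm.trans ((congrArg fpHom e).trans (fpHom_toQ b'))
  obtain ⟨m, hm, hm'⟩ := fpEl_eq_iff.1 e
  change (FibCat.overCat Z).p.map m = _ at hm
  have hl : m.left = 𝟙 T := hm.trans (eqToHom_refl _ _)
  obtain rfl : z = z' := by
    have : m.left ≫ z' = z := Over.w m
    rw [hl] at this
    exact this.symm.trans (Category.id_comp z')
  refine ⟨rfl, rfl, ?_⟩
  rw [IsoG.res_id]
  have h3 : m = 𝟙 (ov z) := Over.OverMorphism.ext hl
  rw [h3, CategoryTheory.Functor.map_id, Category.comp_id] at hm'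
  exact IsoG.ext hm'

/-- The restricted chart over the chart is the pullback of the groupoid. -/
theorem fibHas_restricted (D : Rel a) {P : MorphismProperty (AlgSp.Sp S)} [P.RespectsIso]
    (hc : AlgSt.RepByAlgSp1 (BasedFunctor.comp (AlgSt.overMap q) a))
    (h : P ((AlgSp.yon S).map (pullback.snd q D.s ≫ D.t))) :
    FibHas P a (BasedFunctor.comp (AlgSt.overMap q) a) := by
  obtain ⟨hs, hA⟩ := (repByAlgSp1_iff.1 hc).2 U a
  let F : AlgSp.Sp S := ⟨fib a (BasedFunctor.comp (AlgSt.overMap q) a), hs⟩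
  let C : Over S := pullback q D.s
  let z₀ : C ⟶ Z := pullback.fst q D.s
  let r₀ : C ⟶ D.R := pullback.snd q D.s
  have hc₀ : r₀ ≫ D.s = z₀ ≫ q := pullback.condition.symm
  let b₀ : IsoG a (r₀ ≫ D.t) (z₀ ≫ q) := IsoG.res r₀ rfl hc₀ D.α.symm
  let θ : (AlgSp.yon S).obj C ⟶ F := homOf (toQ b₀)
  haveI : IsIso θ := isIso_homOf (F := F) (toQ b₀) fun T => by
    refine ⟨fun m m' e => ?_, fun c => ?_⟩
    · change clMap m (toQ b₀) = clMap m' (toQ b₀) at e
      rw [clMap_toQ m rfl rfl (Category.assoc _ _ _).symm,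
        clMap_toQ m' rfl rfl (Category.assoc _ _ _).symm] at e
      obtain ⟨e₁, e₂, e₃⟩ := toQ_eq e
      rw [IsoG.res_res_eq (Category.id_comp m) _ _ rfl (Category.assoc _ _ _).symm b₀,
        IsoG.res_res_eq rfl _ _ rfl hc₀ D.α.symm, IsoG.res_res_eq rfl _ _ rfl hc₀ D.α.symm] at e₃
      refine pullback.hom_ext e₂ ?_
      have h1 : (m ≫ r₀) ≫ D.s = m' ≫ z₀ ≫ q := by
        rw [Category.assoc, hc₀, ← Category.assoc, e₂, Category.assoc]
      refine D.uniq (m ≫ r₀) (m' ≫ r₀) h1 ((Category.assoc _ _ _).trans e₁)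
        (by rw [Category.assoc, hc₀]) (Category.assoc _ _ _) ?_
      rw [IsoG.res_symm (m ≫ r₀) h1 ((Category.assoc _ _ _).trans e₁) D.α,
        IsoG.res_symm (m' ≫ r₀) (by simp only [Category.assoc, hc₀]) (Category.assoc _ _ _) D.α] at e₃
      have ss : ∀ {T' : Over S} {p p' : T' ⟶ U} (b : IsoG a p p'), b.symm.symm = b := fun b =>
        IsoG.ext (by simp [IsoG.symm])
      exact (ss _).symm.trans ((congrArg IsoG.symm e₃).trans (ss _))
    · obtain ⟨g, z, b, rfl⟩ := exists_toQ c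
      obtain ⟨m, h, h', hm⟩ := D.lift b.symm
      refine ⟨pullback.lift z m h.symm, ?_⟩
      have e1 : pullback.lift z m h.symm ≫ r₀ = m := pullback.lift_snd _ _ _
      have e2 : pullback.lift z m h.symm ≫ z₀ = z := pullback.lift_fst _ _ _
      refine (clMap_toQ _ (g' := g) (z' := z) (by rw [← Category.assoc, e1, h']) e2
        (by rw [← Category.assoc, e2]) b₀).trans (congrArg toQ ?_)
      rw [IsoG.res_res_eq e1 _ _ rfl hc₀ D.α.symm, IsoG.res_symm m h h' D.α, hm]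
      exact IsoG.ext (by simp [IsoG.symm])
  let π : F ⟶ (AlgSp.yon S).obj U := ObjectProperty.homMk (fibπ a (BasedFunctor.comp (AlgSt.overMap q) a))
  have e : θ ≫ π = (AlgSp.yon S).map (r₀ ≫ D.t) := secOf_injective (by
    rw [secOf_comp, secOf_homOf]
    change (⟨fpHom (toQ b₀)⟩ : ULift _) = ⟨𝟙 _ ≫ r₀ ≫ D.t⟩
    rw [fpHom_toQ, Category.id_comp])
  exact ⟨hs, hA, (MorphismProperty.cancel_left_of_respectsIso (P := P) θ π).1 (e ▸ h)⟩

/-- A quasi-DM stack with separated diagonal has a flat, locally quasi-finite cover. -/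
theorem exists_cover (h𝒳' : AlgSt.IsAlgStack Scheme.fppfPrecoverage 𝒳)
    (hsep : AlgSt.RepByAlgSpWith AlgSp.IsSeparatedMor (FibCat.diag (FibCat.toSelf 𝒳)))
    (hqf : AlgSt.IsQuasiDMOver 𝒳) :
    ∃ (W : Over S) (w : FibCat.overCat W ⥤ᵇ 𝒳),
      AlgSt.RepByAlgSpWith
        (AlgSp.LocP (@Flat ⊓ @LocallyOfFinitePresentation ⊓ @LocallyQuasiFinite) ⊓ AlgSp.IsSurjectiveMor) w := by
  obtain ⟨U, a, ha, has⟩ := h𝒳'.atlas
  obtain ⟨D⟩ := exists_rel a hsep hqf
  haveI : Smooth D.s.left := D.locP_s ha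
  haveI : Smooth D.t.left := D.locP_t ha
  obtain ⟨Z₀, q, hfl, hfp, hlq, hsu⟩ := exists_slice D
  let c := BasedFunctor.comp (AlgSt.overMap q) a
  have hc : AlgSt.RepByAlgSp1 c := repByAlgSp1_of_diag h𝒳'.diag c
  have hmain : ∀ {M : MorphismProperty Scheme.{u}} [IsEtLocal M] [IsZariskiLocalAtTarget M]
      [M.DescendsAlong (@Surjective ⊓ @Flat ⊓ @QuasiCompact)],
      M (pullback.snd q D.s ≫ D.t).left → AlgSt.RepByAlgSpWith (AlgSp.LocP M) c := by
    intro M _ _ _ hM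
    refine repByAlgSpWith_iff.2 ⟨faithful_of_repByAlgSp1 hc, fun T y => ?_⟩
    obtain ⟨V, l, u, hl, hls, ⟨β⟩⟩ := exists_overMap_iso ha has y
    have h0 : FibHas (AlgSp.LocP M) a c :=
      fibHas_restricted D hc (locP_of_prop_left hM)
    exact fibHas_of_cover DecSec.isLocalOnBase_fppf_locP hc l y (fibHas_congr β.symm (fibHas_restr
      (fun _ _ _ _ h₁ h₂ _ h₄ _ _ _ _ sq h => locP_of_isPullback sq.flip h₁ h₂ h₄ h) hc u a h0))
  refine ⟨Z₀, c, repByAlgSpWith_inf (hmain ⟨⟨hfl, hfp⟩, hlq⟩) (repByAlgSpWith_surjective_of_isSurjective hc ?_)⟩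
  intro p
  obtain ⟨w, rfl⟩ := isSurjective_of_repByAlgSpWith has p
  obtain ⟨t, rfl⟩ := (schemePts U).surjective w
  obtain ⟨x, rfl⟩ := hsu.surj t
  refine ⟨schemePts Z₀ ((pullback.fst q D.s).left x), ?_⟩
  have γ : BasedFunctor.comp (AlgSt.overMap D.s) a ≅ BasedFunctor.comp (AlgSt.overMap D.t) a :=
    funIso (IsoG.res (𝟙 D.R) (rfl : 𝟙 D.R ≫ D.s = _) rfl D.α).hom (IsoG.res (𝟙 D.R) rfl rfl D.α).vert
  have h1 := map_congr γ (schemePts D.R ((pullback.snd q D.s).left x))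
  rw [map_schemePts, map_schemePts, ofChart_overMap, ofChart_overMap] at h1
  rw [map_schemePts, map_schemePts]
  refine (ofChart_overMap q a _).trans (Eq.trans ?_ h1)
  rw [← Scheme.Hom.comp_apply, ← Scheme.Hom.comp_apply, ← Over.comp_left, ← Over.comp_left, pullback.condition]

end Groth.Agent.QfSlice
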