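import Groth.Agent.ASp.QfCoords
/-!
Coordinates making a locally quasi-finite map flat and quasi-finite at a generic point.
-/

set_option autoImplicit false
set_option backward.isDefEq.respectTransparency false
set_option backward.isDefEq.respectTransparency.types false

universe u

open CategoryTheory CategoryTheory.Limits AlgebraicGeometry Opposite

namespace Groth.Agent.QfSlice

open Groth.Agent.ASp

/-- A locally quasi-finite map to the product with the spectrum of a field has, at some point, coordinates in which it is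
flat and quasi-finite over affine space. -/
theorem exists_qf_coords {K : Type u} [Field K] {W X : Scheme.{u}} [IsAffine W] [Nonempty X]
    (k : X ⟶ Spec (CommRingCat.of K)) [LocallyOfFiniteType k] (w : X ⟶ W)
    (hlqf : LocallyQuasiFinite (prod.lift k w)) :
    ∃ (d : ℕ) (b : Fin d → Γ(W, ⊤)) (x : X),
      GoodAt (Y := Boot.AS d (Spec (CommRingCat.of K)))
        (AffineSpace.homOfVector k (fun i => w.appTop (b i.down))) x := by
  obtain ⟨x₀⟩ := ‹Nonempty X›
  obtain ⟨j₀, y₀, -⟩ := X.affineCover.exists_eq x₀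
  let C : CommRingCat.{u} := X.affineOpenCover.X j₀
  let ι : Spec C ⟶ X := X.affineCover.f j₀
  haveI : Nonempty ↥(Spec C) := ⟨y₀⟩
  obtain ⟨δ, hδ⟩ := Spec.map_surjective (ι ≫ k)
  obtain ⟨β, hβ⟩ := Spec.map_surjective (ι ≫ w ≫ W.isoSpec.hom)
  letI : Algebra K C := δ.hom.toAlgebra
  haveI : Algebra.FiniteType K C := by
    have : LocallyOfFiniteType (Spec.map δ) := by rw [hδ]; infer_instance
    rw [HasRingHomProperty.Spec_iff (P := @LocallyOfFiniteType)] at this
    exact this
  haveI : Nontrivial C := PrimeSpectrum.nontrivial (y₀ : PrimeSpectrum C)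
  -- a minimal prime
  obtain ⟨P, hP⟩ := (Ideal.nonempty_minimalPrimes (I := (⊥ : Ideal C)) bot_ne_top)
  haveI := hP.1.1
  let C' := C ⧸ P
  let im : Set C' := Set.range fun b => Ideal.Quotient.mk P (β.hom b)
  let E := Algebra.adjoin K im
  haveI : Algebra.QuasiFinite E C' := by
    let q : Spec (CommRingCat.of C') ⟶ Spec C := Spec.map (CommRingCat.ofHom (Ideal.Quotient.mk P))
    haveI : IsClosedImmersion q := IsClosedImmersion.spec_of_surjective _ Ideal.Quotient.mk_surjective
    let f := Spec.map (CommRingCat.ofHom (algebraMap E C'))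
    let β' : Γ(W, ⊤) →+* E := ((Ideal.Quotient.mk P).comp β.hom).codRestrict E.toSubring
      fun b => Algebra.subset_adjoin ⟨b, rfl⟩
    have e1 : q ≫ ι ≫ k = f ≫ Spec.map (CommRingCat.ofHom (algebraMap K E)) := by
      rw [← hδ, ← Spec.map_comp, ← Spec.map_comp]
      rfl
    have e2 : q ≫ ι ≫ w = f ≫ Spec.map (CommRingCat.ofHom β') ≫ W.isoSpec.inv := by
      rw [← cancel_mono W.isoSpec.hom, Category.assoc, Category.assoc, ← hβ, Category.assoc,
        Category.assoc, Iso.inv_hom_id, Category.comp_id, ← Spec.map_comp, ← Spec.map_comp]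
      rfl
    have e : (q ≫ ι) ≫ prod.lift k w =
        f ≫ prod.lift (Spec.map (CommRingCat.ofHom (algebraMap K E)))
          (Spec.map (CommRingCat.ofHom β') ≫ W.isoSpec.inv) :=
      Limits.prod.hom_ext (by simp [e1]) (by simp [e2])
    haveI := hlqf
    haveI : LocallyQuasiFinite (f ≫ prod.lift (Spec.map (CommRingCat.ofHom (algebraMap K E)))
        (Spec.map (CommRingCat.ofHom β') ≫ W.isoSpec.inv)) := by
      rw [← e]; infer_instance
    have h := LocallyQuasiFinite.of_comp f (prod.lift (Spec.map (CommRingCat.ofHom (algebraMap K E)))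
      (Spec.map (CommRingCat.ofHom β') ≫ W.isoSpec.inv))
    rwa [HasRingHomProperty.Spec_iff (P := @LocallyQuasiFinite), CommRingCat.hom_ofHom,
      RingHom.quasiFinite_algebraMap] at h
  haveI : Algebra.IsAlgebraic E C' := isAlgebraic_of_quasiFinite E C' Subtype.val_injective
  obtain ⟨d, c, hcim, hind, halg⟩ := exists_qf_coords_alg (K := K) im
  choose b hb using hcim
  let θ : MvPolynomial (ULift.{u} (Fin d)) K →ₐ[K] C := MvPolynomial.aeval fun i => β.hom (b i.down)
  let θ' : MvPolynomial (ULift.{u} (Fin d)) K →ₐ[K] C' := (Ideal.Quotient.mkₐ K P).comp θ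
  have hθ' : θ' = MvPolynomial.aeval fun i => c i.down := by
    refine MvPolynomial.algHom_ext fun i => ?_
    change Ideal.Quotient.mk P (θ (MvPolynomial.X i)) = _
    simp only [θ, MvPolynomial.aeval_X]
    exact hb i.down
  have hinj : Function.Injective θ' := by
    rw [hθ']
    exact hind.comp (fun i : ULift.{u} (Fin d) => i.down) ULift.down_injective
  have hcomap : P.comap θ.toRingHom = ⊥ := by
    rw [eq_bot_iff]
    intro x hx
    exact Ideal.mem_bot.2 (hinj (by rw [map_zero]; exact Ideal.Quotient.eq_zero_iff_mem.2 hx))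
  let f : Spec C ⟶ Spec (CommRingCat.of (MvPolynomial (ULift.{u} (Fin d)) K)) :=
    Spec.map (CommRingCat.ofHom θ.toRingHom)
  haveI : LocallyOfFiniteType f := by
    rw [HasRingHomProperty.Spec_iff (P := @LocallyOfFiniteType)]
    refine RingHom.FiniteType.of_comp_finiteType (f := algebraMap K (MvPolynomial (ULift.{u} (Fin d)) K)) ?_
    change (θ.toRingHom.comp _).FiniteType
    rw [show θ.toRingHom.comp (algebraMap K _) = algebraMap K C from RingHom.ext θ.commutes,
      RingHom.finiteType_algebraMap]
    infer_instance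
  let p : ↥(Spec C) := ⟨P, hP.1.1⟩
  have hgood : GoodAt f p := by
    refine ⟨?_, ?_⟩
    · refine (RingHom.Flat.respectsIso.arrow_mk_iso_iff (Scheme.arrowStalkMapSpecIso _ p)).2 ?_
      refine flat_of_isField _ ?_
      rw [IsLocalRing.isField_iff_maximalIdeal_eq, ← Localization.AtPrime.map_eq_maximalIdeal]
      exact (congrArg (Ideal.map _) hcomap).trans Ideal.map_bot
    · rw [QFinLib.quasiFiniteAt_iff_isClosed]
      have hp : f.fiberι (f p) (f.asFiber p) = p := Scheme.Hom.fiberι_asFiber f p
      have hfz : ∀ z : ↥(f.fiber (f p)), f (f.fiberι (f p) z) = f p := fun z => by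
        have : f.fiberι (f p) z ∈ Set.range (f.fiberι (f p)) := ⟨z, rfl⟩
        rwa [Scheme.Hom.range_fiberι] at this
      refine ⟨?_, fun z hz => ?_⟩
      · rw [← closure_eq_iff_isClosed]
        refine subset_antisymm (fun z hz => ?_) subset_closure
        rw [← specializes_iff_mem_closure] at hz
        have hle := hz.map (f.fiberι (f p)).continuous
        rw [hp] at hle
        refine QFinLib.fiberι_injective f (f p) ?_
        rw [hp]
        let Q : Ideal C := (f.fiberι (f p) z : PrimeSpectrum C).asIdeal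
        haveI : Q.IsPrime := (f.fiberι (f p) z : PrimeSpectrum C).isPrime
        have hPQ : P ≤ Q := (PrimeSpectrum.le_iff_specializes p _).2 hle
        have hQ : Q.comap θ.toRingHom = ⊥ := (congrArg PrimeSpectrum.asIdeal (hfz z)).trans hcomap
        refine PrimeSpectrum.ext (le_antisymm (fun x hx => ?_) hPQ)
        by_contra hxP
        haveI : Algebra.IsAlgebraic (Algebra.adjoin K (Set.range c)) C' := halg
        apply Ideal.comap_ne_bot_of_algebraic_mem (R := Algebra.adjoin K (Set.range c))
          (I := Q.map (Ideal.Quotient.mk P)) (mt Ideal.Quotient.eq_zero_iff_mem.1 hxP)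
          (Ideal.mem_map_of_mem _ hx) (Algebra.IsAlgebraic.isAlgebraic _)
        rw [eq_bot_iff]
        rintro ⟨y, hy⟩ hy'
        have hy0 : y ∈ θ'.range := by
          rw [hθ', MvPolynomial.aeval_range]
          rwa [show Set.range (fun i : ULift.{u} (Fin d) => c i.down) = Set.range c from
            ULift.down_surjective.range_comp c]
        obtain ⟨T, rfl⟩ := hy0
        have hT : θ T ∈ Q := by
          have hm : θ T ∈ (Q.map (Ideal.Quotient.mk P)).comap (Ideal.Quotient.mk P) := hy'
          rw [Ideal.comap_map_of_surjective _ Ideal.Quotient.mk_surjective] at hm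
          have hk : (⊥ : Ideal C').comap (Ideal.Quotient.mk P) ≤ Q := fun v hv =>
            hPQ (Ideal.Quotient.eq_zero_iff_mem.1 hv)
          exact sup_le le_rfl hk hm
        have hT0 : T ∈ Q.comap θ.toRingHom := hT
        rw [hQ, Ideal.mem_bot] at hT0
        exact Subtype.ext (by simp [hT0])
      · have hle := hz.map (f.fiberι (f p)).continuous
        rw [hp] at hle
        refine QFinLib.fiberι_injective f (f p) ?_
        rw [hp]
        have hPQ : (f.fiberι (f p) z : PrimeSpectrum C).asIdeal ≤ P :=
          (PrimeSpectrum.le_iff_specializes _ p).2 hle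
        exact PrimeSpectrum.ext (le_antisymm hPQ
          (hP.2 ⟨(f.fiberι (f p) z : PrimeSpectrum C).isPrime, bot_le⟩ hPQ))
  refine ⟨d, b, ι p, ?_⟩
  let I := AffineSpace.SpecIso (ULift.{u} (Fin d)) (CommRingCat.of K)
  let ψ := AffineSpace.homOfVector k (fun i : ULift.{u} (Fin d) => w.appTop (b i.down))
  have hfac : ι ≫ ψ = f ≫ I.inv := by
    refine AffineSpace.hom_ext ?_ fun i => ?_
    · rw [Category.assoc, Category.assoc, AffineSpace.homOfVector_over, AffineSpace.SpecIso_inv_over,
        ← Spec.map_comp, ← hδ]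
      congr 1
      ext x
      exact (θ.commutes x).symm
    · rw [Scheme.Hom.comp_appTop, CommRingCat.comp_apply, AffineSpace.homOfVector_appTop_coord,
        Scheme.Hom.comp_appTop, CommRingCat.comp_apply, AffineSpace.SpecIso_inv_appTop_coord]
      have e : ι ≫ w = Spec.map β ≫ W.isoSpec.inv := by
        rw [hβ]; simp
      have e2 : W.isoSpec.inv.appTop (b i.down) = (Scheme.ΓSpecIso _).inv (b i.down) := by
        simp [Scheme.isoSpec]
      have key : ∀ {A A' : CommRingCat.{u}} (g : A ⟶ A') (r : A),
          (Spec.map g).appTop ((Scheme.ΓSpecIso A).inv r) = (Scheme.ΓSpecIso A').inv (g r) := fun g r =>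
        (congrArg (fun m => m.hom r) (Scheme.ΓSpecIso_inv_naturality g)).symm
      refine Eq.trans ?_ (key _ _).symm
      change (w.appTop ≫ ι.appTop) (b i.down) = _
      rw [← Scheme.Hom.comp_appTop, e, Scheme.Hom.comp_appTop, CommRingCat.comp_apply, e2, key]
      congr 1
      exact (MvPolynomial.aeval_X (fun i : ULift.{u} (Fin d) => β.hom (b i.down)) i).symm
  obtain ⟨hf, hq⟩ := hgood
  have h1 : ((ι ≫ ψ).stalkMap p).hom.Flat := by
    have : ∀ g, g = f ≫ I.inv → (g.stalkMap p).hom.Flat := by
      rintro g rfl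
      exact (FlatDescStalk.flat_stalkMap_comp_iff f I.inv p hf).2 (Flat.stalkMap _ _)
    exact this _ hfac
  have h2 : (ι ≫ ψ).QuasiFiniteAt p := by
    rw [hfac]
    exact Scheme.Hom.quasiFiniteAt_comp_iff.2 hq
  exact ⟨(FlatDescStalk.flat_stalkMap_comp_iff ι ψ p (Flat.stalkMap ι p)).1 h1,
    Scheme.Hom.quasiFiniteAt_comp_iff_of_isOpenImmersion.1 h2⟩

end Groth.Agent.QfSlice
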