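import Groth.Agent.QfSlice.Rel
import Groth.Agent.ASt.LocQCalc
import Groth.Agent.ASp.SmST
/-!
The scheme of isomorphisms as a groupoid over the chart.
-/

set_option autoImplicit false
set_option backward.isDefEq.respectTransparency false
set_option backward.isDefEq.respectTransparency.types false
set_option linter.unusedSectionVars false
set_option linter.style.haveILetI false

universe u

open CategoryTheory CategoryTheory.Limits AlgebraicGeometry Opposite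

namespace Groth.Agent.QfSlice

open Groth.Agent.ASt Groth.Agent.ASp Groth.Agent.KPointChart

variable {S : Scheme.{u}}

/-- A section whose pullbacks are all sections, each once, represents the sheaf. -/
theorem isIso_homOf {T : Over S} {F : AlgSp.Sp S} (ξ : F.obj.obj (op T))
    (h : ∀ T' : Over S, Function.Bijective (fun m : T' ⟶ T => F.obj.map m.op ξ)) :
    IsIso (homOf ξ : (AlgSp.yon S).obj T ⟶ F) := by
  let θ : (AlgSp.yon S).obj T ⟶ F := homOf ξ
  haveI : IsIso θ.hom := by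
    haveI : ∀ X, IsIso (θ.hom.app X) := fun X => by
      rw [isIso_iff_bijective]
      exact (h X.unop).comp Equiv.ulift.bijective
    exact NatIso.isIso_of_isIso_app _
  haveI : IsIso ((sheafToPresheaf (AlgSp.J S) (Type (u + 1))).map θ) := ‹IsIso θ.hom›
  exact isIso_of_reflects_iso θ (sheafToPresheaf (AlgSp.J S) (Type (u + 1)))

variable {𝒳 : AlgSt.Cat S} [h𝒳 : FibCat.IsFibGrpd 𝒳.p] {U : Over S} {a : FibCat.overCat U ⥤ᵇ 𝒳}

/-- The inverse of the groupoid. -/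
theorem Rel.exists_inv (D : Rel a) : ∃ i : D.R ⟶ D.R, i ≫ D.s = D.t ∧ i ≫ D.t = D.s ∧ IsIso i := by
  obtain ⟨i, h, h', hi⟩ := D.lift D.α.symm
  refine ⟨i, h, h', ⟨i, ?_, ?_⟩⟩ <;>
  · have e₁ : (i ≫ i) ≫ D.s = D.s := by rw [Category.assoc, h, h']
    have e₂ : (i ≫ i) ≫ D.t = D.t := by rw [Category.assoc, h', h]
    refine D.uniq (i ≫ i) (𝟙 _) e₁ e₂ (Category.id_comp _) (Category.id_comp _) ?_
    rw [IsoG.res_id, ← IsoG.res_res_eq (g' := i) (g := i) rfl h' h h h' D.α, hi, IsoG.res_symm i h h' D.α, hi]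
    exact IsoG.ext (by simp [IsoG.symm])

/-- An identity section. -/
theorem Rel.exists_unit (D : Rel a) {T : Over S} (l : T ⟶ U) :
    ∃ e : T ⟶ D.R, e ≫ D.s = l ∧ e ≫ D.t = l := by
  obtain ⟨e, h, h', -⟩ := D.lift (IsoG.refl l)
  exact ⟨e, h, h'⟩

/-- A property of the chart holds for the source. -/
theorem Rel.locP_s (D : Rel a) {P : MorphismProperty Scheme.{u}} [IsEtLocal P]
    (ha : AlgSt.RepByAlgSpWith (AlgSp.LocP P) a) : P D.s.left := by
  obtain ⟨hs, hA, hπ⟩ := (repByAlgSpWith_iff.1 ha).2 U a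
  let F : AlgSp.Sp S := ⟨fib a a, hs⟩
  let θ : (AlgSp.yon S).obj D.R ⟶ F := homOf (toEl D.α)
  haveI : IsIso θ := isIso_homOf (F := F) (toEl D.α) fun T => by
    refine ⟨fun m m' e => ?_, fun c => ?_⟩
    · change clMap m (toEl D.α) = clMap m' (toEl D.α) at e
      rw [clMap_toEl m rfl rfl, clMap_toEl m' rfl rfl] at e
      obtain ⟨e₁, e₂, e₃⟩ := toEl_eq e
      rw [IsoG.res_res_eq (Category.id_comp m) _ _ rfl rfl D.α] at e₃
      exact D.uniq m m' e₁ e₂ rfl rfl e₃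
    · obtain ⟨g, g', b, rfl⟩ := exists_toEl (x := a) c
      obtain ⟨m, h, h', rfl⟩ := D.lift b
      exact ⟨m, clMap_toEl m h h' D.α⟩
  let π : F ⟶ (AlgSp.yon S).obj U := ObjectProperty.homMk (fibπ a a)
  have e : θ ≫ π = (AlgSp.yon S).map D.s := secOf_injective (by
    rw [secOf_comp, secOf_homOf]
    change (⟨fpHom (toEl D.α)⟩ : ULift _) = ⟨𝟙 _ ≫ D.s⟩
    rw [fpHom_toEl, Category.id_comp])
  refine prop_left_of_locP (k := D.s) ?_
  rw [← e]
  exact (MorphismProperty.cancel_left_of_respectsIso (P := AlgSp.LocP P) θ π).2 hπ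

/-- A property of the chart holds for the target. -/
theorem Rel.locP_t (D : Rel a) {P : MorphismProperty Scheme.{u}} [IsEtLocal P] [P.RespectsIso]
    (ha : AlgSt.RepByAlgSpWith (AlgSp.LocP P) a) : P D.t.left := by
  obtain ⟨i, h, -, hi⟩ := D.exists_inv
  haveI : IsIso i.left := inferInstanceAs (IsIso ((Over.forget S).map i))
  rw [← h, Over.comp_left]
  exact (P.cancel_left_of_respectsIso i.left D.s.left).2 (D.locP_s ha)

/-- Composition with an isomorphism of two points moves the fibres of the target. -/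
theorem Rel.exists_transport (D : Rel a) {W RW Z : Over S} {ιW : W ⟶ U} {j : RW ⟶ D.R} {sW : RW ⟶ W}
    (sq : IsPullback j sW D.s ιW) {tW : RW ⟶ U} (htW : j ≫ D.t = tW) {ξ ξ' : Z ⟶ U} (γ : IsoG a ξ ξ') :
    ∃ (f : pullback tW ξ ⟶ pullback tW ξ') (h₀ : f ≫ pullback.snd tW ξ' = pullback.snd tW ξ)
      (h₁ : (f ≫ pullback.fst tW ξ' ≫ j) ≫ D.s = (pullback.fst tW ξ ≫ sW) ≫ ιW)
      (h₂ : (f ≫ pullback.fst tW ξ' ≫ j) ≫ D.t = pullback.snd tW ξ ≫ ξ'),
      f ≫ pullback.fst tW ξ' ≫ sW = pullback.fst tW ξ ≫ sW ∧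
      IsoG.res (f ≫ pullback.fst tW ξ' ≫ j) h₁ h₂ D.α =
        (IsoG.res (pullback.fst tW ξ ≫ j) (by simp only [Category.assoc, sq.w])
          (by rw [Category.assoc, htW, pullback.condition]) D.α).trans
          (IsoG.res (pullback.snd tW ξ) rfl rfl γ) := by
  obtain ⟨m, hm₁, hm₂, hm⟩ := D.lift
    ((IsoG.res (pullback.fst tW ξ ≫ j) (show _ = (pullback.fst tW ξ ≫ sW) ≫ ιW by simp only [Category.assoc, sq.w])
      (show _ = pullback.snd tW ξ ≫ ξ by rw [Category.assoc, htW, pullback.condition]) D.α).trans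
      (IsoG.res (pullback.snd tW ξ) rfl rfl γ))
  let p := sq.lift m (pullback.fst tW ξ ≫ sW) hm₁
  have hp₁ : p ≫ j = m := sq.lift_fst _ _ _
  have hp₂ : p ≫ sW = pullback.fst tW ξ ≫ sW := sq.lift_snd _ _ _
  let f : pullback tW ξ ⟶ pullback tW ξ' := pullback.lift p (pullback.snd tW ξ)
    ((congrArg (p ≫ ·) htW.symm).trans ((Category.assoc p j D.t).symm.trans ((congrArg (· ≫ D.t) hp₁).trans hm₂)))
  have hf₁ : f ≫ pullback.fst tW ξ' = p := pullback.lift_fst _ _ _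
  have hf : f ≫ pullback.fst tW ξ' ≫ j = m := by rw [← Category.assoc, hf₁, hp₁]
  refine ⟨f, pullback.lift_snd _ _ _, by rw [hf, hm₁], by rw [hf, hm₂], by rw [← Category.assoc, hf₁, hp₂], ?_⟩
  exact (IsoG.res_congr hf _ _ D.α).trans hm

/-- The fibres of the target over two isomorphic points agree, compatibly with the given sections. -/
theorem Rel.exists_isPullback (D : Rel a) {W RW Z : Over S} {ιW : W ⟶ U} {j : RW ⟶ D.R} {sW : RW ⟶ W}
    (sq : IsPullback j sW D.s ιW) {tW : RW ⟶ U} (htW : j ≫ D.t = tW) (z₁ z₂ : Z ⟶ RW)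
    (hz : z₁ ≫ sW = z₂ ≫ sW) (σ : Z ⟶ pullback tW (z₁ ≫ tW)) (hσ₁ : σ ≫ pullback.fst _ _ = z₁)
    (hσ₂ : σ ≫ pullback.snd _ _ = 𝟙 Z) :
    ∃ pr : pullback tW (z₁ ≫ tW) ⟶ RW,
      IsPullback pr (pullback.snd tW (z₁ ≫ tW)) tW (z₂ ≫ tW) ∧ pr ≫ sW = pullback.fst _ _ ≫ sW ∧ σ ≫ pr = z₂ := by
  have a₁ : (z₁ ≫ j) ≫ D.s = (z₁ ≫ sW) ≫ ιW := by simp only [Category.assoc, sq.w]
  have a₂ : (z₁ ≫ j) ≫ D.t = z₁ ≫ tW := by rw [Category.assoc, htW]
  have b₁ : (z₂ ≫ j) ≫ D.s = (z₁ ≫ sW) ≫ ιW := by rw [hz]; simp only [Category.assoc, sq.w]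
  have b₂ : (z₂ ≫ j) ≫ D.t = z₂ ≫ tW := by rw [Category.assoc, htW]
  let A := IsoG.res (z₁ ≫ j) a₁ a₂ D.α
  let B := IsoG.res (z₂ ≫ j) b₁ b₂ D.α
  let γ : IsoG a (z₁ ≫ tW) (z₂ ≫ tW) := A.symm.trans B
  obtain ⟨f, hf₀, hf₁, hf₂, hfs, hf⟩ := D.exists_transport sq htW γ
  have key : ∀ {ξ ξ' : Z ⟶ U} (γ : IsoG a ξ ξ') (f : pullback tW ξ ⟶ pullback tW ξ')
      (g : pullback tW ξ' ⟶ pullback tW ξ)
      (h₁ h₂) (k₁ k₂),
      f ≫ pullback.snd tW ξ' = pullback.snd tW ξ → f ≫ pullback.fst tW ξ' ≫ sW = pullback.fst tW ξ ≫ sW →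
      g ≫ pullback.snd tW ξ = pullback.snd tW ξ' → g ≫ pullback.fst tW ξ ≫ sW = pullback.fst tW ξ' ≫ sW →
      IsoG.res (f ≫ pullback.fst tW ξ' ≫ j) h₁ h₂ D.α =
        (IsoG.res (pullback.fst tW ξ ≫ j) (show _ = (pullback.fst tW ξ ≫ sW) ≫ ιW by simp only [Category.assoc, sq.w])
          (show _ = pullback.snd tW ξ ≫ ξ by rw [Category.assoc, htW, pullback.condition]) D.α).trans
          (IsoG.res (pullback.snd tW ξ) rfl rfl γ) →
      IsoG.res (g ≫ pullback.fst tW ξ ≫ j) k₁ k₂ D.α =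
        (IsoG.res (pullback.fst tW ξ' ≫ j) (show _ = (pullback.fst tW ξ' ≫ sW) ≫ ιW by simp only [Category.assoc, sq.w])
          (show _ = pullback.snd tW ξ' ≫ ξ' by rw [Category.assoc, htW, pullback.condition]) D.α).trans
          (IsoG.res (pullback.snd tW ξ') rfl rfl γ.symm) →
      f ≫ g = 𝟙 _ := by
    intro ξ ξ' γ f g h₁ h₂ k₁ k₂ f0 fs g0 gs ef eg
    refine pullback.hom_ext (sq.hom_ext ?_ ?_) (by simp [g0, f0])
    · have e₁ : ((f ≫ g) ≫ pullback.fst tW ξ ≫ j) ≫ D.s = (pullback.fst tW ξ ≫ sW) ≫ ιW := by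
        rw [Category.assoc f g, Category.assoc f, k₁, ← Category.assoc, fs]
      have e₂ : ((f ≫ g) ≫ pullback.fst tW ξ ≫ j) ≫ D.t = pullback.snd tW ξ ≫ ξ := by
        rw [Category.assoc f g, Category.assoc f, k₂, ← Category.assoc, f0]
      rw [Category.id_comp, Category.assoc]
      refine D.uniq _ _ e₁ e₂ (by simp only [Category.assoc, sq.w])
        (by rw [Category.assoc, htW, pullback.condition]) ?_
      rw [← IsoG.res_res_eq (Category.assoc f g (pullback.fst tW ξ ≫ j)).symm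
        (by rw [← Category.assoc, fs]) (by rw [← Category.assoc, f0]) k₁ k₂ D.α, eg,
        IsoG.res_trans f (by rw [← Category.assoc, fs]) (by rw [← Category.assoc, f0]) (by rw [← Category.assoc, f0]),
        IsoG.res_res_eq rfl _ _ _ _ D.α, ef, IsoG.res_res_eq f0 _ _ rfl rfl γ.symm, IsoG.res_symm,
        IsoG.trans_assoc, IsoG.trans_symm, IsoG.trans_refl]
    · rw [Category.id_comp, Category.assoc, Category.assoc, gs, fs]
  obtain ⟨g, hg₀, hg₁, hg₂, hgs, hg⟩ := D.exists_transport sq htW γ.symm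
  have e1 : f ≫ g = 𝟙 _ := key γ f g _ _ _ _ hf₀ hfs hg₀ hgs hf hg
  have e2 : g ≫ f = 𝟙 _ := key γ.symm g f _ _ _ _ hg₀ hgs hf₀ hfs hg (hf.trans (by
    rw [show γ.symm.symm = γ from IsoG.ext (by simp [IsoG.symm])]))
  refine ⟨f ≫ pullback.fst _ _, IsPullback.of_iso_pullback ⟨?_⟩ ⟨f, g, e1, e2⟩ rfl hf₀,
    (Category.assoc _ _ _).trans hfs, ?_⟩
  · rw [Category.assoc, pullback.condition, ← Category.assoc, hf₀]
  · refine sq.hom_ext ?_ ?_
    · have e₁ : ((σ ≫ f ≫ pullback.fst tW (z₂ ≫ tW)) ≫ j) ≫ D.s = (z₁ ≫ sW) ≫ ιW := by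
        rw [show (σ ≫ f ≫ pullback.fst tW (z₂ ≫ tW)) ≫ j = σ ≫ f ≫ pullback.fst tW (z₂ ≫ tW) ≫ j by
          simp only [Category.assoc], Category.assoc σ, hf₁, ← Category.assoc, ← Category.assoc, hσ₁]
      have e₂ : ((σ ≫ f ≫ pullback.fst tW (z₂ ≫ tW)) ≫ j) ≫ D.t = z₂ ≫ tW := by
        rw [show (σ ≫ f ≫ pullback.fst tW (z₂ ≫ tW)) ≫ j = σ ≫ f ≫ pullback.fst tW (z₂ ≫ tW) ≫ j by
          simp only [Category.assoc], Category.assoc σ, hf₂, ← Category.assoc, hσ₂, Category.id_comp]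
      refine D.uniq _ _ e₁ e₂ b₁ b₂ ?_
      rw [← IsoG.res_res_eq (g' := σ) (g := f ≫ pullback.fst tW (z₂ ≫ tW) ≫ j) (by simp only [Category.assoc])
        (by rw [← Category.assoc, ← Category.assoc, hσ₁]) (by rw [← Category.assoc, hσ₂, Category.id_comp])
        hf₁ hf₂ D.α, hf,
        IsoG.res_trans σ (by rw [← Category.assoc, ← Category.assoc, hσ₁])
          (by rw [← Category.assoc, hσ₂, Category.id_comp] : σ ≫ pullback.snd _ _ ≫ z₁ ≫ tW = z₁ ≫ tW)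
          (by rw [← Category.assoc, hσ₂, Category.id_comp]),
        IsoG.res_res_eq (show σ ≫ pullback.fst _ _ ≫ j = z₁ ≫ j by rw [← Category.assoc, hσ₁]) _ _ _ _ D.α,
        IsoG.res_res_eq hσ₂ _ _ rfl rfl γ, IsoG.res_id]
      show A.trans (A.symm.trans B) = B
      rw [← IsoG.trans_assoc, IsoG.trans_symm, IsoG.refl_trans]
    · rw [Category.assoc, Category.assoc, hfs, ← Category.assoc, hσ₁, hz]

end Groth.Agent.QfSlice
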