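import Groth.Agent.KPointChart.IsoDef
import Groth.Agent.KPointChart.IsoAlg
import Groth.Agent.ASt.DiagCancel
import Groth.Agent.ASt.Props
import Groth.Agent.ASt.Local
import Groth.Agent.ASp.LqfNbhd
/-!
The scheme of isomorphisms between two values of a chart.
-/

set_option autoImplicit false
set_option backward.isDefEq.respectTransparency false
set_option backward.isDefEq.respectTransparency.types false
set_option linter.unusedSectionVars false
set_option linter.style.haveILetI false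

universe u

open CategoryTheory CategoryTheory.Limits AlgebraicGeometry Opposite

namespace Groth.Agent.QfSlice

open Groth.Agent.ASt Groth.Agent.ASp Groth.Agent.KPointChart

variable {S : Scheme.{u}} {𝒳 : AlgSt.Cat S} [h𝒳 : FibCat.IsFibGrpd 𝒳.p] {U : Over S}

/-- The scheme of all isomorphisms between values of `a`. -/
structure Rel (a : FibCat.overCat U ⥤ᵇ 𝒳) where
  /-- the scheme -/
  R : Over S
  /-- the source -/
  s : R ⟶ U
  /-- the target -/
  t : R ⟶ U
  /-- the universal isomorphism -/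
  α : IsoG a s t
  lift : ∀ {T : Over S} {l l' : T ⟶ U} (β : IsoG a l l'),
    ∃ (m : T ⟶ R) (h : m ≫ s = l) (h' : m ≫ t = l'), IsoG.res m h h' α = β
  uniq : ∀ {T : Over S} (m m' : T ⟶ R) {l l' : T ⟶ U} (h₁ : m ≫ s = l) (h₁' : m ≫ t = l') (h₂ : m' ≫ s = l)
    (h₂' : m' ≫ t = l'), IsoG.res m h₁ h₁' α = IsoG.res m' h₂ h₂' α → m = m'
  lqf : LocallyQuasiFinite (pullback.lift (f := U.hom) (g := U.hom) s.left t.left ((Over.w s).trans (Over.w t).symm))

/-- With separated locally quasi-finite diagonal the isomorphisms form a scheme. -/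
theorem exists_rel (a : FibCat.overCat U ⥤ᵇ 𝒳)
    (hsep : AlgSt.RepByAlgSpWith AlgSp.IsSeparatedMor (FibCat.diag (FibCat.toSelf 𝒳)))
    (hqf : AlgSt.RepByAlgSpWith (AlgSp.LocP (@LocallyQuasiFinite ⊓ @LocallyOfFiniteType))
      (FibCat.diag (FibCat.toSelf 𝒳))) : Nonempty (Rel a) := by
  haveI : FibCat.IsFibGrpd (FibCat.fp (FibCat.toSelf 𝒳) (FibCat.toSelf 𝒳)).p := isFibGrpd_fp
  let P : Over S := Over.mk (pullback.fst U.hom U.hom ≫ U.hom)
  let p₁ : P ⟶ U := Over.homMk (pullback.fst U.hom U.hom) rfl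
  let p₂ : P ⟶ U := Over.homMk (pullback.snd U.hom U.hom) pullback.condition.symm
  let f := FibCat.diag (FibCat.toSelf 𝒳)
  let w : FibCat.overCat P ⥤ᵇ FibCat.fp (FibCat.toSelf 𝒳) (FibCat.toSelf 𝒳) :=
    FibCat.fpLift (BasedFunctor.comp (AlgSt.overMap p₁) a) (BasedFunctor.comp (AlgSt.overMap p₂) a)
      (eqToIso ((comp_toSelf (BasedFunctor.comp (AlgSt.overMap p₁) a)).trans
        (comp_toSelf (BasedFunctor.comp (AlgSt.overMap p₂) a)).symm))
  obtain ⟨hs, hA, hPs⟩ := (repByAlgSpWith_iff.1 hsep).2 P w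
  obtain ⟨hs', -, hPq⟩ := (repByAlgSpWith_iff.1 hqf).2 P w
  let F : AlgSp.Sp S := ⟨fib w f, hs⟩
  let π : F ⟶ (AlgSp.yon S).obj P := ObjectProperty.homMk (fibπ w f)
  obtain ⟨B, ⟨e⟩⟩ := exists_scheme_of_sep_lqf hA π hPs hPq
  obtain ⟨b, hb⟩ := (AlgSp.yon S).map_surjective (e.hom ≫ π)
  obtain ⟨j, o, ho, φ, hφ, hc⟩ := fpEl_exists (secOf e.hom : ClType (FibCat.fp w f) B)
  have hjb : j = b := by
    have h1 : secOf (e.hom ≫ π) = secOf ((AlgSp.yon S).map b) := by rw [hb]
    rw [secOf_comp] at h1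
    change (fibπ w f).app (op B) _ = _ at h1
    rw [fibπ_app, hc, fpHom_fpEl] at h1
    exact (congrArg ULift.down h1).trans (Category.id_comp b)
  have hfst : 𝒳.p.map φ.hom.fst = eqToHom ((base_eq a (j ≫ p₁)).trans ho.symm) := hφ.trans rfl
  have hsnd : 𝒳.p.map φ.hom.snd = eqToHom ((base_eq a (j ≫ p₂)).trans ho.symm) := by
    have := fp_map_snd φ
    rw [this, hfst]
    simp
  haveI : IsIso φ.hom.snd := isIso_of_vert _ hsnd
  let α : IsoG a (j ≫ p₁) (j ≫ p₂) := ⟨φ.hom.fst ≫ inv φ.hom.snd, by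
    rw [Functor.map_comp, Functor.map_inv, hfst]; simp [hsnd]⟩
  haveI : IsIso e.hom := inferInstance
  have hlqf : LocallyQuasiFinite b.left := by
    have h1 := hPq e.hom (𝟙 _) b (repWith_of_isIso _) (AlgSp.repWith_id _ P) (by rw [Category.comp_id]; exact hb.symm)
    exact h1.1
  let mkEl : ∀ {T : Over S} {l l' : T ⟶ U} (k : T ⟶ P) (_ : k ≫ p₁ = l) (_ : k ≫ p₂ = l') (_ : IsoG a l l'),
      ClType (FibCat.fp w f) T := fun {T l l'} k h h' β =>
    fpEl k (a.obj (ov l')) (base_eq a l')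
      (fpHomMk (eqToHom (show a.obj (ov (k ≫ p₁)) = a.obj (ov l) by rw [h]) ≫ β.hom)
        (eqToHom (show a.obj (ov (k ≫ p₂)) = a.obj (ov l') by rw [h']))
        (by
          have h1 := fp_iso_map (w.obj (ov k))
          have h2 := fp_iso_map (f.obj (a.obj (ov l')))
          change (w.obj (ov k)).obj.iso.hom = _ at h1
          change (f.obj (a.obj (ov l'))).obj.iso.hom = _ at h2
          rw [h1, h2]
          change 𝒳.p.map _ ≫ _ = _ ≫ 𝒳.p.map _
          rw [Functor.map_comp, β.vert, eqToHom_map, eqToHom_map]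
          simp
          exact Category.comp_id _))
      (by
        change 𝒳.p.map (eqToHom _ ≫ β.hom) = _
        rw [Functor.map_comp, β.vert, eqToHom_map]
        simp)
  have hmap : ∀ {T : Over S} (m : T ⟶ B) {l l' : T ⟶ U} (h : m ≫ j ≫ p₁ = l) (h' : m ≫ j ≫ p₂ = l'),
      clMap m (secOf e.hom : ClType (FibCat.fp w f) B) =
        mkEl (m ≫ j) ((Category.assoc _ _ _).trans h) ((Category.assoc _ _ _).trans h') (IsoG.res m h h' α) := by
    intro T m l l' h h'
    rw [hc]
    refine clMap_fpEl m rfl (a.map (ovHom m h') ≫ φ.hom.snd) (fp_hom_ext ?_ ?_)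
    · have h1 : (IsoG.res m h h' α).hom ≫ a.map (ovHom m h') ≫ φ.hom.snd =
          a.map (ovHom m h) ≫ φ.hom.fst := by
        refine (Category.assoc _ _ _).symm.trans ((congrArg (fun t => t ≫ φ.hom.snd) (IsoG.res_comp m h h' α)).trans
          ((Category.assoc _ _ _).trans (congrArg (fun t => a.map (ovHom m h) ≫ t) ?_)))
        simp [α]
      refine Eq.trans ?_ ((congrArg (fun t => eqToHom _ ≫ t) h1).symm.trans (Category.assoc _ _ _).symm)
      refine Eq.trans ?_ (Category.assoc _ _ _)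
      refine congrArg (fun t => t ≫ φ.hom.fst) ?_
      have key : ∀ (k₁ : T ⟶ U) (e₁ : m ≫ j ≫ p₁ = k₁) (he : a.obj (ov k₁) = a.obj (ov l)),
          a.map (ovHom m e₁) = eqToHom he ≫ a.map (ovHom m h) := by
        intro k₁ e₁ he
        subst e₁
        subst h
        simp
      exact key _ (Category.assoc _ _ _).symm _
    · refine Eq.trans ?_ (Category.assoc _ _ _)
      refine congrArg (fun t => t ≫ φ.hom.snd) ?_
      have key : ∀ (k₁ : T ⟶ U) (e₁ : m ≫ j ≫ p₂ = k₁) (he : a.obj (ov k₁) = a.obj (ov l')),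
          a.map (ovHom m e₁) = eqToHom he ≫ a.map (ovHom m h') := by
        intro k₁ e₁ he
        subst e₁
        subst h'
        simp
      exact key _ (Category.assoc m j p₂).symm (congrArg (fun t => a.obj (ov t)) ((Category.assoc m j p₂).trans h'))
  have hsec : ∀ {T : Over S} (m : T ⟶ B), secOf ((AlgSp.yon S).map m ≫ e.hom) =
      clMap m (secOf e.hom : ClType (FibCat.fp w f) B) := fun m => secOf_map m e.hom
  refine ⟨⟨B, j ≫ p₁, j ≫ p₂, α, fun {T} {l l'} β => ?_, fun {T} m m' {l l'} h₁ h₁' h₂ h₂' hm => ?_, ?_⟩⟩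
  · let k : T ⟶ P := Over.homMk (pullback.lift l.left l'.left ((Over.w l).trans (Over.w l').symm)) (by
      show pullback.lift _ _ _ ≫ pullback.fst _ _ ≫ U.hom = T.hom
      rw [pullback.lift_fst_assoc]
      exact Over.w l)
    have hk₁ : k ≫ p₁ = l := Over.OverMorphism.ext (pullback.lift_fst _ _ _)
    have hk₂ : k ≫ p₂ = l' := Over.OverMorphism.ext (pullback.lift_snd _ _ _)
    let q : (AlgSp.yon S).obj T ⟶ F := homOf (mkEl k hk₁ hk₂ β)
    obtain ⟨m, hm⟩ := (AlgSp.yon S).map_surjective (q ≫ e.inv)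
    have hq : (AlgSp.yon S).map m ≫ e.hom = q := by rw [hm, Category.assoc, e.inv_hom_id, Category.comp_id]
    have h2 : m ≫ j = k := by
      have h0 : secOf ((AlgSp.yon S).map m ≫ e.hom) = mkEl k hk₁ hk₂ β := by rw [hq, secOf_homOf]
      rw [hsec, hmap m rfl rfl] at h0
      have h1 := congrArg fpHom h0
      simp only [mkEl, fpHom_fpEl] at h1
      exact h1
    have hl : m ≫ j ≫ p₁ = l := by rw [← Category.assoc, h2, hk₁]
    have hl' : m ≫ j ≫ p₂ = l' := by rw [← Category.assoc, h2, hk₂]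
    refine ⟨m, hl, hl', ?_⟩
    have h3 : secOf ((AlgSp.yon S).map m ≫ e.hom) = mkEl k hk₁ hk₂ β := by rw [hq, secOf_homOf]
    rw [hsec, hmap m hl hl'] at h3
    clear_value k
    subst h2
    obtain ⟨x, hx, hx'⟩ := fpEl_eq_iff.1 h3
    have x2 : eqToHom (show a.obj (ov ((m ≫ j) ≫ p₂)) = a.obj (ov l') by rw [Category.assoc, hl']) ≫ x =
        eqToHom (show a.obj (ov ((m ≫ j) ≫ p₂)) = a.obj (ov l') by rw [Category.assoc, hl']) :=
      congrArg (fun t => t.hom.snd) hx'
    have hx1 : x = 𝟙 _ := by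
      rw [eqToHom_comp_iff, eqToHom_trans] at x2
      exact x2.trans (eqToHom_refl _ _)
    have x1 : (eqToHom _ ≫ (IsoG.res m hl hl' α).hom) ≫ x = eqToHom _ ≫ β.hom :=
      congrArg (fun t => t.hom.fst) hx'
    rw [hx1, Category.comp_id] at x1
    exact IsoG.ext ((cancel_epi _).1 x1)
  · have h3 : (AlgSp.yon S).map m ≫ e.hom = (AlgSp.yon S).map m' ≫ e.hom := secOf_injective (by
      rw [hsec, hsec, hmap m h₁ h₁', hmap m' h₂ h₂', hm]
      have hk : m ≫ j = m' ≫ j := Over.OverMorphism.ext (pullback.hom_ext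
        (by simpa [p₁] using congrArg (fun t => t.left) (h₁.trans h₂.symm))
        (by simpa [p₂] using congrArg (fun t => t.left) (h₁'.trans h₂'.symm)))
      congr 1)
    exact (AlgSp.yon S).map_injective ((cancel_mono e.hom).1 h3)
  · have : pullback.lift (f := U.hom) (g := U.hom) (j ≫ p₁).left (j ≫ p₂).left
        ((Over.w (j ≫ p₁)).trans (Over.w (j ≫ p₂)).symm) = j.left := by
      apply pullback.hom_ext <;> simp [p₁, p₂]
    rw [this, hjb]
    exact hlqf

end Groth.Agent.QfSlice
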