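import Groth.Agent.QfSlice.Gpd
import Groth.Agent.QfSlice.Coords
import Groth.Agent.ASp.QfChartLem
import Groth.Agent.ASp.Fpqc
import Groth.Agent.FlatLocus.SmoothFibres
/-!
Slicing a smooth chart to a quasi-finite one along its groupoid.
-/

set_option autoImplicit false
set_option backward.isDefEq.respectTransparency false
set_option backward.isDefEq.respectTransparency.types false
set_option linter.unusedSectionVars false

universe u

open CategoryTheory CategoryTheory.Limits AlgebraicGeometry Opposite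

namespace Groth.Agent.QfSlice

open Groth.Agent.ASt Groth.Agent.ASp Groth.Agent.KPointChart Groth.Agent.Boot

variable {S : Scheme.{u}} {𝒳 : AlgSt.Cat S} [h𝒳 : FibCat.IsFibGrpd 𝒳.p] {U : Over S}
  {a : FibCat.overCat U ⥤ᵇ 𝒳}

/-- The locus where the coordinates are flat and quasi-finite is saturated. -/
theorem goodAt_saturated (D : Rel a) {W RW : Over S} {ιW : W ⟶ U} {j : RW ⟶ D.R} {sW : RW ⟶ W}
    (sq : IsPullback j sW D.s ιW) {tW : RW ⟶ U} (htW : j ≫ D.t = tW)
    [Flat sW.left] [Flat tW.left] {d : ℕ} (a : W.left ⟶ AS d S)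
    (φ : RW.left ⟶ pullback U.hom (AS d S ↘ S)) [LocallyOfFinitePresentation φ]
    (hφ₁ : φ ≫ pullback.fst _ _ = tW.left) (hφ₂ : φ ≫ pullback.snd _ _ = sW.left ≫ a)
    (ha : a ≫ AS d S ↘ S = W.hom)
    (r₁ r₂ : ↥RW.left) (hr : sW.left r₁ = sW.left r₂) (h : GoodAt φ r₁) : GoodAt φ r₂ := by
  let Z : Over S := pullback sW sW
  let z₁ : Z ⟶ RW := pullback.fst sW sW
  let z₂ : Z ⟶ RW := pullback.snd sW sW
  have hsqZ := isPullback_left (IsPullback.of_hasPullback sW sW)
  haveI hz₁ : Flat z₁.left := MorphismProperty.of_isPullback hsqZ.flip ‹Flat sW.left›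
  haveI hz₂ : Flat z₂.left := MorphismProperty.of_isPullback hsqZ ‹Flat sW.left›
  obtain ⟨z, hzr₁, hzr₂⟩ : ∃ z : ↥Z.left, z₁.left z = r₁ ∧ z₂.left z = r₂ := by
    obtain ⟨w, hw₁, hw₂⟩ := Scheme.Pullback.exists_preimage_pullback r₁ r₂ hr
    refine ⟨hsqZ.isoPullback.inv w, ?_, ?_⟩
    · rw [← Scheme.Hom.comp_apply, IsPullback.isoPullback_inv_fst]; exact hw₁
    · rw [← Scheme.Hom.comp_apply, IsPullback.isoPullback_inv_snd]; exact hw₂
  let C : Over S := pullback tW (z₁ ≫ tW)
  let pz : C ⟶ Z := pullback.snd _ _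
  let pW : C ⟶ W := pullback.fst _ _ ≫ sW
  let σ : Z ⟶ C := pullback.lift z₁ (𝟙 Z) (Category.id_comp _).symm
  have hσ₁ : σ ≫ pullback.fst tW (z₁ ≫ tW) = z₁ := pullback.lift_fst _ _ _
  have hσz : σ ≫ pz = 𝟙 Z := pullback.lift_snd _ _ _
  let φC : C.left ⟶ pullback Z.hom (AS d S ↘ S) := pullback.lift pz.left (pW.left ≫ a)
    (by rw [Category.assoc, ha, Over.w, Over.w])
  have main : ∀ zk : Z ⟶ RW, Flat zk.left → zk ≫ sW = z₁ ≫ sW →
      (GoodAt φC (σ.left z) ↔ GoodAt φ (zk.left z)) := by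
    intro zk hzk hk
    let ξ := zk ≫ tW
    haveI : Flat ξ.left := inferInstanceAs (Flat (zk.left ≫ tW.left))
    obtain ⟨pr, sqk, hprs, hσk⟩ := D.exists_isPullback sq htW z₁ zk hk.symm σ hσ₁ hσz
    have sqks := isPullback_left sqk
    let m : pullback Z.hom (AS d S ↘ S) ⟶ pullback U.hom (AS d S ↘ S) :=
      pullback.map _ _ _ _ ξ.left (𝟙 _) (𝟙 S) (by simp) (by simp)
    have sqm : IsPullback m (pullback.fst Z.hom (AS d S ↘ S)) (pullback.fst U.hom (AS d S ↘ S)) ξ.left := by
      refine IsPullback.of_right ?_ (by simp [m, pullback.map])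
        (IsPullback.of_hasPullback U.hom (AS d S ↘ S)).flip
      rw [show m ≫ pullback.snd U.hom (AS d S ↘ S) = pullback.snd _ _ by simp [m, pullback.map], Over.w]
      exact (IsPullback.of_hasPullback Z.hom (AS d S ↘ S)).flip
    haveI : Flat m := MorphismProperty.of_isPullback (P := @Flat) sqm.flip ‹_›
    have sqφ : IsPullback pr.left φC φ m := by
      refine IsPullback.of_bot (h₃₁ := ξ.left) (v₂₁ := pullback.fst Z.hom (AS d S ↘ S))
        (v₂₂ := pullback.fst U.hom (AS d S ↘ S)) ?_ ?_ sqm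
      · rw [show φC ≫ pullback.fst Z.hom (AS d S ↘ S) = pz.left from pullback.lift_fst _ _ _, hφ₁]
        exact sqks
      · apply pullback.hom_ext
        · simp only [Category.assoc, hφ₁, φC, m, pullback.map, pullback.lift_fst, pullback.lift_fst_assoc]
          exact sqks.w
        · simp only [Category.assoc, hφ₂, φC, m, pullback.map, pullback.lift_snd, pullback.lift_snd_assoc,
            Category.comp_id]
          change pr.left ≫ sW.left ≫ a = pW.left ≫ a
          simp only [pW]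
          rw [← hprs, Over.comp_left, Category.assoc]
    rw [goodAt_iff_of_isPullback sqφ, ← Scheme.Hom.comp_apply, ← Over.comp_left, hσk]
  rw [← hzr₂]
  exact (main z₂ hz₂ pullback.condition.symm).1 ((main z₁ hz₁ rfl).2 (hzr₁ ▸ h))

end Groth.Agent.QfSlice
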