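import Groth.Agent.QfSlice.Sat
/-!
The slices of a smooth chart along its groupoid.
-/

set_option autoImplicit false
set_option backward.isDefEq.respectTransparency false
set_option backward.isDefEq.respectTransparency.types false
set_option linter.unusedSectionVars false

universe u

open CategoryTheory CategoryTheory.Limits AlgebraicGeometry Opposite

namespace Groth.Agent.QfSlice

open Groth.Agent.ASt Groth.Agent.ASp Groth.Agent.KPointChart Groth.Agent.Boot

variable {S : Scheme.{u}} {𝒳 : AlgSt.Cat S} [h𝒳 : FibCat.IsFibGrpd 𝒳.p] {U : Over S}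
  {a : FibCat.overCat U ⥤ᵇ 𝒳}

/-- A smooth chart with locally quasi-finite isomorphism scheme has slices covering it. -/
theorem exists_slice (D : Rel a) [Smooth D.s.left] [Smooth D.t.left] :
    ∃ (Z₀ : Over S) (q : Z₀ ⟶ U), Flat (pullback.snd q D.s ≫ D.t).left ∧
      LocallyOfFinitePresentation (pullback.snd q D.s ≫ D.t).left ∧
      LocallyQuasiFinite (pullback.snd q D.s ≫ D.t).left ∧
      Surjective (pullback.snd q D.s ≫ D.t).left := by
  let WS : U.left.Opens → Over S := fun W => Over.mk (W.ι ≫ U.hom)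
  let ιW : ∀ W : U.left.Opens, WS W ⟶ U := fun W => Over.homMk W.ι rfl
  have hιW : ∀ W, IsOpenImmersion (ιW W).left := fun W => inferInstanceAs (IsOpenImmersion W.ι)
  let RW : U.left.Opens → Over S := fun W => pullback D.s (ιW W)
  let jW : ∀ W, RW W ⟶ D.R := fun W => pullback.fst _ _
  let sW : ∀ W, RW W ⟶ WS W := fun W => pullback.snd _ _
  let tW : ∀ W, RW W ⟶ U := fun W => jW W ≫ D.t
  have htW : ∀ W, jW W ≫ D.t = tW W := fun W => rfl
  have sq : ∀ W, IsPullback (jW W) (sW W) D.s (ιW W) := fun W => IsPullback.of_hasPullback _ _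
  have hsW : ∀ W, Smooth (sW W).left := fun W =>
    MorphismProperty.of_isPullback (P := @Smooth) (isPullback_left (sq W)) inferInstance
  have hjW : ∀ W, IsOpenImmersion (jW W).left := fun W =>
    MorphismProperty.of_isPullback (P := @IsOpenImmersion) (isPullback_left (sq W)).flip (hιW W)
  have htW' : ∀ W, Smooth (tW W).left := fun W => by
    haveI := hjW W
    exact inferInstanceAs (Smooth ((jW W).left ≫ D.t.left))
  have hsW₁ : ∀ W, Flat (sW W).left := fun W => haveI := hsW W; inferInstance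
  have hsW₂ : ∀ W, LocallyOfFinitePresentation (sW W).left := fun W => haveI := hsW W; inferInstance
  have htW₁ : ∀ W, Flat (tW W).left := fun W => haveI := htW' W; inferInstance
  have htW₂ : ∀ W, LocallyOfFinitePresentation (tW W).left := fun W => haveI := htW' W; inferInstance
  let φ : ∀ i : CIdx U, (RW i.W).left ⟶ pullback U.hom (AS i.d S ↘ S) := fun i =>
    pullback.lift (tW i.W).left ((sW i.W).left ≫ i.a) (by
      rw [Category.assoc, i.ha, Over.w]
      exact (Over.w (sW i.W)).symm)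
  have hφ₁ : ∀ i, φ i ≫ pullback.fst _ _ = (tW i.W).left := fun i => pullback.lift_fst _ _ _
  have hφ₂ : ∀ i, φ i ≫ pullback.snd _ _ = (sW i.W).left ≫ i.a := fun i => pullback.lift_snd _ _ _
  have hφl : ∀ i, LocallyOfFinitePresentation (φ i) := fun i => by
    haveI : LocallyOfFinitePresentation (φ i ≫ pullback.fst U.hom (AS i.d S ↘ S)) := by
      rw [hφ₁]; infer_instance
    exact FlatLocus.locallyOfFinitePresentation_of_comp (φ i) (pullback.fst U.hom (AS i.d S ↘ S))
  let G : ∀ i : CIdx U, (WS i.W).left.Opens := fun i =>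
    ⟨(sW i.W).left '' {x | GoodAt (φ i) x}, (sW i.W).left.isOpenMap _ (@isOpen_goodAt _ _ (φ i) (hφl i))⟩
  let O : ∀ i : CIdx U, (RW i.W).left.Opens := fun i => (sW i.W).left ⁻¹ᵁ G i
  have hG : ∀ i, ∀ x ∈ O i, GoodAt (φ i) x := by
    intro i x hx
    change (sW i.W).left x ∈ (sW i.W).left '' {x | GoodAt (φ i) x} at hx
    obtain ⟨y, hy, hyx⟩ := hx
    haveI := hφl i
    exact QfSlice.goodAt_saturated D (sq i.W) (htW i.W) i.a (φ i) (hφ₁ i) (hφ₂ i) i.ha y x hyx hy
  have hφG₁ : ∀ i, Flat ((O i).ι ≫ φ i) := fun i => flat_of_forall_goodAt _ _ (hG i)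
  have hφG₂ : ∀ i, LocallyQuasiFinite ((O i).ι ≫ φ i) := fun i =>
    haveI := hφl i
    locallyQuasiFinite_of_forall_goodAt _ _ (hG i)
  choose S' π σ hπe hπa hσ hpt using fun i : CIdx U => exists_unity_etale S i.m i.e
  let V : CIdx U → Scheme.{u} := fun i => pullback ((G i).ι ≫ i.a) (σ i)
  let qi : ∀ i, V i ⟶ U.left := fun i => pullback.fst _ _ ≫ (G i).ι ≫ i.W.ι
  let Z₀ : Over S := Over.mk (Limits.Sigma.desc fun i => qi i ≫ U.hom)
  let q : Z₀ ⟶ U := Over.homMk (Limits.Sigma.desc qi) (Sigma.hom_ext _ _ fun i => by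
    change Sigma.ι V i ≫ Limits.Sigma.desc qi ≫ U.hom = Sigma.ι V i ≫ Limits.Sigma.desc _
    rw [Sigma.ι_desc_assoc, Sigma.ι_desc])
  let ιi : ∀ i, Over.mk (Sigma.ι V i ≫ Z₀.hom) ⟶ Z₀ := fun i => Over.homMk (Sigma.ι V i) rfl
  have key : ∀ i : CIdx U, Flat (pullback.snd (ιi i ≫ q) D.s ≫ D.t).left ∧
      LocallyOfFinitePresentation (pullback.snd (ιi i ≫ q) D.s ≫ D.t).left ∧
      LocallyQuasiFinite (pullback.snd (ιi i ≫ q) D.s ≫ D.t).left := by
    intro i
    let vW : Over.mk (Sigma.ι V i ≫ Z₀.hom) ⟶ WS i.W :=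
      Over.homMk (pullback.fst _ _ ≫ (G i).ι : V i ⟶ (WS i.W).left) (by
        change (pullback.fst _ _ ≫ (G i).ι) ≫ i.W.ι ≫ U.hom = Sigma.ι V i ≫ Limits.Sigma.desc _
        rw [Sigma.ι_desc]
        simp only [qi, Category.assoc])
    have hvW : ιi i ≫ q = vW ≫ ιW i.W := Over.OverMorphism.ext (by
      change Sigma.ι V i ≫ Limits.Sigma.desc qi = (pullback.fst _ _ ≫ (G i).ι) ≫ i.W.ι
      rw [Sigma.ι_desc, Category.assoc])
    let VU : Over S := pullback (ιi i ≫ q) D.s
    let va : VU ⟶ Over.mk (Sigma.ι V i ≫ Z₀.hom) := pullback.fst _ _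
    let vb : VU ⟶ U := pullback.snd (ιi i ≫ q) D.s ≫ D.t
    change Flat vb.left ∧ LocallyOfFinitePresentation vb.left ∧ LocallyQuasiFinite vb.left
    obtain ⟨j, hjR, hjs⟩ : ∃ j : VU ⟶ RW i.W, j ≫ jW i.W = pullback.snd (ιi i ≫ q) D.s ∧ j ≫ sW i.W = va ≫ vW :=
      ⟨(sq i.W).lift (pullback.snd _ _) (va ≫ vW) (by rw [Category.assoc, ← hvW]; exact pullback.condition.symm),
        (sq i.W).lift_fst _ _ _, (sq i.W).lift_snd _ _ _⟩
    have hjt : j ≫ tW i.W = vb := by rw [← htW, ← Category.assoc, hjR]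
    have sqj : IsPullback j va (sW i.W) vW := by
      refine IsPullback.of_right ?_ hjs (sq i.W)
      rw [hjR, ← hvW]
      exact (IsPullback.of_hasPullback (ιi i ≫ q) D.s).flip
    have sqX : IsPullback j.left va.left (sW i.W).left (pullback.fst ((G i).ι ≫ i.a) (σ i) ≫ (G i).ι) :=
      isPullback_left sqj
    let sG := (sW i.W).left ∣_ G i
    have sqO : IsPullback (O i).ι sG (sW i.W).left (G i).ι := (isPullback_morphismRestrict _ _).flip
    obtain ⟨y, hy₂, hy₁⟩ : ∃ y : VU.left ⟶ (O i).toScheme, y ≫ (O i).ι = j.left ∧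
        y ≫ sG = va.left ≫ pullback.fst _ _ :=
      ⟨sqO.lift j.left (va.left ≫ pullback.fst _ _) (by rw [sqX.w, Category.assoc]), sqO.lift_fst _ _ _,
        sqO.lift_snd _ _ _⟩
    have sqy : IsPullback y va.left sG (pullback.fst _ _) := by
      refine IsPullback.of_right ?_ hy₁ sqO
      rw [hy₂]
      exact sqX
    let φG := (O i).ι ≫ φ i
    haveI : Flat φG := hφG₁ i
    haveI : LocallyQuasiFinite φG := hφG₂ i
    let m : pullback U.hom (π i) ⟶ pullback U.hom (AS i.d S ↘ S) :=
      pullback.map _ _ _ _ (𝟙 _) (σ i) (𝟙 S) (by simp) (by simp [hσ])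
    have sqm : IsPullback (pullback.snd U.hom (π i)) m (σ i) (pullback.snd U.hom (AS i.d S ↘ S)) := by
      refine IsPullback.of_bot (h₃₁ := U.hom) (v₂₁ := pullback.fst U.hom (AS i.d S ↘ S))
        (v₂₂ := AS i.d S ↘ S) ?_ (by simp [m, pullback.map]) (IsPullback.of_hasPullback U.hom (AS i.d S ↘ S)).flip
      rw [show m ≫ pullback.fst U.hom (AS i.d S ↘ S) = pullback.fst _ _ by simp [m, pullback.map], hσ]
      exact (IsPullback.of_hasPullback U.hom (π i)).flip
    let χ : VU.left ⟶ pullback U.hom (π i) := pullback.lift vb.left (va.left ≫ pullback.snd _ _) (by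
      have e := pullback.condition (f := (G i).ι ≫ i.a) (g := σ i) =≫ (AS i.d S ↘ S)
      simp only [Category.assoc, i.ha] at e
      rw [Over.w, Category.assoc, ← hσ i, ← e, ← Over.w va]
      exact congrArg (va.left ≫ ·) ((Over.w vW).symm.trans (Category.assoc _ _ _)))
    have hsA : φG ≫ pullback.snd U.hom (AS i.d S ↘ S) = sG ≫ (G i).ι ≫ i.a := by
      simp only [φG, Category.assoc, hφ₂, sG, O]
      rw [morphismRestrict_ι_assoc]
    have sqχ : IsPullback χ y m φG := by
      refine IsPullback.of_right ?_ ?_ sqm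
      · rw [show χ ≫ pullback.snd U.hom (π i) = va.left ≫ pullback.snd _ _ from pullback.lift_snd _ _ _, hsA]
        exact sqy.flip.paste_horiz (IsPullback.of_hasPullback _ _).flip
      · apply pullback.hom_ext
        · simp only [Category.assoc, φG, hφ₁, m, pullback.map, pullback.lift_fst, χ, Category.comp_id]
          rw [reassoc_of% hy₂, ← Over.comp_left, hjt]
        · simp only [Category.assoc, hsA, reassoc_of% hy₁, m, pullback.map, pullback.lift_snd, χ,
            pullback.lift_snd_assoc]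
          rw [← pullback.condition]
    haveI : Flat χ := MorphismProperty.of_isPullback (P := @Flat) sqχ.flip ‹Flat φG›
    haveI : LocallyOfFinitePresentation χ :=
      MorphismProperty.of_isPullback (P := @LocallyOfFinitePresentation) sqχ.flip inferInstance
    haveI : LocallyQuasiFinite χ :=
      MorphismProperty.of_isPullback (P := @LocallyQuasiFinite) sqχ.flip ‹LocallyQuasiFinite φG›
    rw [show vb.left = χ ≫ pullback.fst U.hom (π i) from (pullback.lift_fst _ _ _).symm]
    haveI := hπe i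
    haveI := Groth.Agent.Unibranch.locallyQuasiFinite_of_etale (π i)
    exact ⟨inferInstance, inferInstance, inferInstance⟩
  let C : Over S := pullback q D.s
  let vc : C ⟶ U := pullback.snd q D.s ≫ D.t
  have hloc : ∀ (P : MorphismProperty Scheme.{u}) [IsZariskiLocalAtSource P],
      (∀ i, P (pullback.snd (ιi i ≫ q) D.s ≫ D.t).left) → P vc.left := by
    intro P _ h
    rw [IsZariskiLocalAtSource.iff_of_openCover (P := P)
      ((sigmaOpenCover V).pullback₁ (pullback.fst q D.s).left)]
    intro (i : CIdx U)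
    have e1 : IsPullback (pullback.fst (pullback.fst q D.s) (ιi i)) (pullback.snd (pullback.fst q D.s) (ιi i))
        (pullback.fst q D.s) (ιi i) := IsPullback.of_hasPullback _ _
    have e2 : IsPullback (pullback.snd (pullback.fst q D.s) (ιi i))
        (pullback.fst (pullback.fst q D.s) (ιi i) ≫ pullback.snd q D.s) (ιi i ≫ q) D.s :=
      e1.flip.paste_vert (IsPullback.of_hasPullback q D.s) |> id
    have e3 : P (pullback.fst (pullback.fst q D.s) (ιi i) ≫ vc).left := by
      rw [show pullback.fst (pullback.fst q D.s) (ιi i) ≫ vc =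
        e2.isoPullback.hom ≫ pullback.snd (ιi i ≫ q) D.s ≫ D.t by
          rw [← Category.assoc, ← Category.assoc e2.isoPullback.hom, e2.isoPullback_hom_snd],
        Over.comp_left]
      haveI : IsIso e2.isoPullback.hom.left := inferInstanceAs (IsIso ((Over.forget S).map e2.isoPullback.hom))
      exact (P.cancel_left_of_respectsIso _ _).2 (h i)
    have sqs : IsPullback (pullback.fst (pullback.fst q D.s) (ιi i)).left
        (pullback.snd (pullback.fst q D.s) (ιi i)).left (pullback.fst q D.s).left (Sigma.ι V i) :=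
      isPullback_left e1
    change P (pullback.fst (pullback.fst q D.s).left (Sigma.ι V i) ≫ vc.left)
    rw [← sqs.isoPullback_inv_fst, Category.assoc]
    exact (P.cancel_left_of_respectsIso _ _).2 e3
  refine ⟨Z₀, q, hloc @Flat fun i => (key i).1, hloc @LocallyOfFinitePresentation fun i => (key i).2.1,
    hloc @LocallyQuasiFinite fun i => (key i).2.2, ⟨fun t₀ => ?_⟩⟩
  -- a geometric point
  let K : Type u := AlgebraicClosure (U.left.residueField t₀)
  let ω : Spec (CommRingCat.of K) ⟶ U.left :=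
    Spec.map (CommRingCat.ofHom (algebraMap (U.left.residueField t₀) K)) ≫ U.left.fromSpecResidueField t₀
  let KS : Over S := Over.mk (ω ≫ U.hom)
  let u : KS ⟶ U := Over.homMk ω rfl
  let str : Spec (CommRingCat.of K) ⟶ S := ω ≫ U.hom
  let pt : ↥KS.left := IsLocalRing.closedPoint K
  suffices ∃ (zz : KS ⟶ Z₀) (r : KS ⟶ D.R), zz ≫ q = r ≫ D.s ∧ r ≫ D.t = u by
    obtain ⟨zz, r, h1, h2⟩ := this
    refine ⟨(pullback.lift zz r h1).left pt, ?_⟩
    change ((pullback.lift zz r h1).left ≫ vc.left) pt = t₀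
    rw [← Over.comp_left, show pullback.lift zz r h1 ≫ vc = u by rw [pullback.lift_snd_assoc, h2]]
    change ω pt = t₀
    simp only [ω, Scheme.Hom.comp_apply]
    exact Scheme.fromSpecResidueField_apply t₀ _
  obtain ⟨_, ⟨(W : U.left.Opens), hWa, rfl⟩, huW, -⟩ :=
    U.left.isBasis_affineOpens.exists_subset_of_mem_open (Set.mem_univ (u.left pt)) isOpen_univ
  have hrange : Set.range u.left ⊆ Set.range W.ι := by
    rintro _ ⟨w, rfl⟩
    haveI : Subsingleton ↥KS.left := inferInstanceAs (Subsingleton (PrimeSpectrum K))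
    rw [Scheme.Opens.range_ι]
    rwa [Subsingleton.elim w pt]
  let uW : KS ⟶ WS W := Over.homMk (IsOpenImmersion.lift W.ι u.left hrange) (by
    change IsOpenImmersion.lift W.ι u.left hrange ≫ W.ι ≫ U.hom = str
    rw [IsOpenImmersion.lift_fac_assoc]
    exact Over.w u)
  have huW' : uW ≫ ιW W = u := Over.OverMorphism.ext (IsOpenImmersion.lift_fac _ _ _)
  obtain ⟨e₀, he₁, he₂⟩ := D.exists_unit u
  obtain ⟨k₀, hk₀⟩ : ∃ k₀ : KS ⟶ RW W, k₀ ≫ jW W = e₀ :=
    ⟨(sq W).lift e₀ uW (by rw [he₁, huW']), (sq W).lift_fst _ _ _⟩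
  have hk₀t : k₀ ≫ tW W = u := by rw [← htW, ← Category.assoc, hk₀, he₂]
  let X := pullback (tW W).left u.left
  haveI : IsAffine (WS W).left := hWa
  haveI : Nonempty ↥X := by
    obtain ⟨z, -, -⟩ := Scheme.Pullback.exists_preimage_pullback (f := (tW W).left) (g := u.left)
      (k₀.left pt) pt (by rw [← Scheme.Hom.comp_apply, ← Over.comp_left, hk₀t])
    exact ⟨z⟩
  let k : X ⟶ Spec (CommRingCat.of K) := pullback.snd _ _
  let w : X ⟶ (WS W).left := pullback.fst _ _ ≫ (sW W).left
  haveI : LocallyOfFiniteType k := MorphismProperty.pullback_snd _ _ inferInstance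
  haveI : LocallyQuasiFinite (prod.lift (tW W).left (sW W).left) := by
    haveI := D.lqf
    haveI : Mono (prod.lift (pullback.fst U.hom U.hom) (pullback.snd U.hom U.hom)) := ⟨fun g h e =>
      pullback.hom_ext (by simpa using e =≫ prod.fst) (by simpa using e =≫ prod.snd)⟩
    haveI : IsOpenImmersion (jW W).left :=
      MorphismProperty.of_isPullback (P := @IsOpenImmersion) (isPullback_left (sq W)).flip (hιW W)
    let g : U.left ⨯ W.toScheme ⟶ U.left ⨯ U.left := prod.lift (prod.snd ≫ W.ι) prod.fst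
    have e : prod.lift (tW W).left (sW W).left ≫ g =
        ((jW W).left ≫ pullback.lift (f := U.hom) (g := U.hom) D.s.left D.t.left ((Over.w D.s).trans (Over.w D.t).symm)) ≫
          prod.lift (pullback.fst U.hom U.hom) (pullback.snd U.hom U.hom) := by
      apply Limits.prod.hom_ext <;> simp only [g, Category.assoc, prod.lift_fst, prod.lift_snd,
        prod.lift_snd_assoc, pullback.lift_fst, pullback.lift_snd]
      · exact (prod.lift_snd_assoc _ _ _).trans (congrArg (fun m => m.left) (sq W).w.symm)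
      · exact (prod.lift_fst _ _).trans (congrArg (fun m => m.left) (htW W).symm)
    haveI : LocallyQuasiFinite (prod.lift (tW W).left (sW W).left ≫ g) := by rw [e]; infer_instance
    exact LocallyQuasiFinite.of_comp _ g
  have sqB : IsPullback (prod.map u.left (𝟙 W.toScheme)) prod.fst prod.fst u.left :=
    ⟨⟨prod.map_fst _ _⟩, ⟨PullbackCone.IsLimit.mk _ (fun c => prod.lift c.snd (c.fst ≫ prod.snd))
      (fun c => Limits.prod.hom_ext (by simp [c.condition]) (by simp)) (fun c => by simp)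
      fun c m h1 h2 => Limits.prod.hom_ext (by simpa using h2) (by rw [← h1]; simp)⟩⟩
  have sqP : IsPullback (pullback.fst (tW W).left u.left) (prod.lift k w) (prod.lift (tW W).left (sW W).left)
      (prod.map u.left (𝟙 W.toScheme)) := by
    refine IsPullback.of_bot ?_ ?_ sqB
    · erw [prod.lift_fst, prod.lift_fst]
      exact IsPullback.of_hasPullback _ _
    · apply Limits.prod.hom_ext
      · simp only [Category.assoc, prod.lift_fst, prod.map_fst, prod.lift_fst_assoc, k]
        exact pullback.condition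
      · simp only [Category.assoc, prod.lift_snd, prod.map_snd, prod.lift_snd_assoc, w]
        exact (Category.comp_id _).symm
  obtain ⟨d, b, x, hx⟩ := QfSlice.exists_qf_coords k w
    (MorphismProperty.of_isPullback (P := @LocallyQuasiFinite) sqP inferInstance)
  let a : W.toScheme ⟶ AS d S := AffineSpace.homOfVector (W.ι ≫ U.hom) (fun i => b i.down)
  have ha : a ≫ AS d S ↘ S = W.ι ≫ U.hom := AffineSpace.homOfVector_over _ _
  let i₀ : CIdx U := ⟨W, hWa, d, a, ha, 0, 0⟩
  let hK : AS d KS.left ⟶ pullback U.hom (AS d S ↘ S) :=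
    pullback.lift (AS d KS.left ↘ KS.left ≫ u.left) (AffineSpace.map _ str)
      (by rw [Category.assoc, Over.w, AffineSpace.map_over]; rfl)
  have hKfst : hK ≫ pullback.fst U.hom (AS d S ↘ S) = AS d KS.left ↘ KS.left ≫ u.left := pullback.lift_fst _ _ _
  have sqK : IsPullback hK (AS d KS.left ↘ KS.left) (pullback.fst U.hom (AS d S ↘ S)) u.left := by
    refine IsPullback.of_right ?_ hKfst (IsPullback.of_hasPullback U.hom (AS d S ↘ S)).flip
    rw [show hK ≫ pullback.snd U.hom (AS d S ↘ S) = AffineSpace.map _ str from pullback.lift_snd _ _ _, Over.w]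
    exact AffineSpace.isPullback_map str
  let ψ₀ : X ⟶ AS d KS.left := AffineSpace.homOfVector k (fun i => w.appTop (b i.down))
  have sqψ : IsPullback (pullback.fst (tW W).left u.left) ψ₀ (φ i₀) hK := by
    refine IsPullback.of_bot (h₃₁ := u.left) (v₂₁ := AS d KS.left ↘ KS.left)
      (v₂₂ := pullback.fst U.hom (AS d S ↘ S)) ?_ ?_ sqK
    · rw [show ψ₀ ≫ AS d KS.left ↘ KS.left = k from AffineSpace.homOfVector_over _ _, hφ₁]
      exact IsPullback.of_hasPullback _ _
    · apply pullback.hom_ext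
      · refine (Category.assoc _ _ _).trans ((congrArg (pullback.fst _ _ ≫ ·) (hφ₁ i₀)).trans
          (pullback.condition.trans (Eq.trans ?_ (Category.assoc _ _ _).symm)))
        exact (congrArg (· ≫ u.left) (AffineSpace.homOfVector_over _ _).symm).trans
          ((Category.assoc _ _ _).trans (congrArg (ψ₀ ≫ ·) hKfst.symm))
      · refine (Category.assoc _ _ _).trans ((congrArg (pullback.fst _ _ ≫ ·) (hφ₂ i₀)).trans
          ((Category.assoc _ _ _).symm.trans (Eq.trans ?_ ((congrArg (ψ₀ ≫ ·)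
            (pullback.lift_snd _ _ _).symm).trans (Category.assoc _ _ _).symm))))
        change w ≫ a = ψ₀ ≫ AffineSpace.map _ str
        refine AffineSpace.hom_ext ?_ fun j => ?_
        · simp only [Category.assoc, a, AffineSpace.homOfVector_over, AffineSpace.map_over, ψ₀,
            AffineSpace.homOfVector_over_assoc, w]
          rw [show (sW W).left ≫ W.ι ≫ U.hom = (RW W).hom from Over.w (sW W), ← Over.w (tW W),
            pullback.condition_assoc, Over.w]
          rfl
        · simp only [Scheme.Hom.comp_appTop, CommRingCat.comp_apply, AffineSpace.map_appTop_coord, a, ψ₀,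
            AffineSpace.homOfVector_appTop_coord]
  have hgr : GoodAt (φ i₀) (pullback.fst (tW W).left u.left x) := by
    refine ⟨?_, (QFinLib.quasiFiniteAt_baseChange_iff _ sqψ x).1 hx.2⟩
    obtain ⟨s, e, hse⟩ : ∃ (s : ↥U.left) (e : U.left.residueField s ⟶ CommRingCat.of K),
        u.left = Spec.map e ≫ U.left.fromSpecResidueField s :=
      ⟨_, _, ((Scheme.SpecToEquivOfField K U.left).left_inv u.left).symm⟩
    haveI : Flat (Spec.map e) := by
      rw [HasRingHomProperty.Spec_iff (P := @Flat)]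
      exact flat_of_isField _ (Field.toIsField _)
    let pr := pullback.fst U.hom (AS d S ↘ S)
    obtain ⟨h', hh'1, hh'2⟩ : ∃ h' : AS d KS.left ⟶ pr.fiber s, h' ≫ pr.fiberι s = hK ∧
        h' ≫ pr.fiberToSpecResidueField s = AS d KS.left ↘ KS.left ≫ Spec.map e :=
      ⟨pullback.lift hK (AS d KS.left ↘ KS.left ≫ Spec.map e) (by rw [hKfst, Category.assoc, ← hse]),
        pullback.lift_fst _ _ _, pullback.lift_snd _ _ _⟩
    have sqh : IsPullback h' (AS d KS.left ↘ KS.left) (pr.fiberToSpecResidueField s) (Spec.map e) := by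
      refine IsPullback.of_right ?_ hh'2 (IsPullback.of_hasPullback pr (U.left.fromSpecResidueField s))
      rw [show h' ≫ pullback.fst pr (U.left.fromSpecResidueField s) = hK from hh'1, ← hse]
      exact sqK
    haveI : Flat h' := MorphismProperty.of_isPullback (P := @Flat) sqh.flip ‹_›
    obtain ⟨a', ha'1, ha'2⟩ : ∃ a' : X ⟶ (φ i₀ ≫ pr).fiber s, a' ≫ (φ i₀ ≫ pr).fiberι s = pullback.fst _ _ ∧
        a' ≫ MoreMor.fiberMap (φ i₀) pr s = ψ₀ ≫ h' :=
      ⟨(FlatLocus.isPullback_fiberMap (φ i₀) pr s).lift (pullback.fst _ _) (ψ₀ ≫ h')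
        (by rw [sqψ.w, Category.assoc, hh'1]), IsPullback.lift_fst _ _ _ _, IsPullback.lift_snd _ _ _ _⟩
    have sqa : IsPullback a' ψ₀ (MoreMor.fiberMap (φ i₀) pr s) h' := by
      refine IsPullback.of_right ?_ ha'2 (FlatLocus.isPullback_fiberMap (φ i₀) pr s)
      rw [ha'1, hh'1]
      exact sqψ
    haveI : LocallyOfFinitePresentation (φ i₀ ≫ pr) := by rw [hφ₁]; infer_instance
    have hfl : ((φ i₀ ≫ pr).stalkMap (pullback.fst (tW W).left u.left x)).hom.Flat := by
      have : ∀ g, g = (tW W).left → (g.stalkMap (pullback.fst (tW W).left u.left x)).hom.Flat := by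
        rintro g rfl
        exact Flat.stalkMap _ _
      exact this _ (hφ₁ i₀)
    exact ((FlatLocus.fibre_criterion (φ i₀) pr s (a' x) _
      (by rw [← Scheme.Hom.comp_apply, ha'1])).1 ⟨hfl, flat_stalkMap_descend sqa x hx.1⟩).2
  have hmem : pullback.fst (tW W).left u.left x ∈ O i₀ := ⟨_, hgr, rfl⟩
  -- a point of the slice
  let φG := (O i₀).ι ≫ φ i₀
  haveI : Flat φG := hφG₁ i₀
  let Ck := pullback ((O i₀).ι ≫ (tW W).left) u.left
  have hφfst : φG ≫ pullback.fst U.hom (AS d S ↘ S) = (O i₀).ι ≫ (tW W).left :=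
    (Category.assoc _ _ _).trans (congrArg ((O i₀).ι ≫ ·) (hφ₁ i₀))
  obtain ⟨ψ, hψh, hψs⟩ : ∃ ψ : Ck ⟶ AS d KS.left, ψ ≫ hK = pullback.fst _ _ ≫ φG ∧
      ψ ≫ AS d KS.left ↘ KS.left = pullback.snd _ _ :=
    ⟨sqK.lift (pullback.fst _ _ ≫ φG) (pullback.snd _ _) (by rw [Category.assoc, hφfst, pullback.condition]),
      sqK.lift_fst _ _ _, sqK.lift_snd _ _ _⟩
  have sqG : IsPullback (pullback.fst ((O i₀).ι ≫ (tW W).left) u.left) ψ φG hK := by
    refine IsPullback.of_bot (h₃₁ := u.left) (v₂₁ := AS d KS.left ↘ KS.left)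
      (v₂₂ := pullback.fst U.hom (AS d S ↘ S)) ?_ hψh.symm sqK
    rw [hψs, hφfst]
    exact IsPullback.of_hasPullback _ _
  haveI : Flat ψ := MorphismProperty.of_isPullback (P := @Flat) sqG ‹_›
  haveI : LocallyOfFinitePresentation ψ :=
    MorphismProperty.of_isPullback (P := @LocallyOfFinitePresentation) sqG inferInstance
  haveI : Nonempty ↥Ck := by
    obtain ⟨z, -, -⟩ := Scheme.Pullback.exists_preimage_pullback (f := (O i₀).ι ≫ (tW W).left) (g := u.left)
      (⟨_, hmem⟩ : (O i₀).toScheme) (k x) (by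
        change (tW W).left (pullback.fst (tW W).left u.left x) = _
        rw [← Scheme.Hom.comp_apply, pullback.condition]
        rfl)
    exact ⟨z⟩
  obtain ⟨m, e, ζ, hζ, hm, cpt, hcψ⟩ := exists_unity_point_flat (K := K) ψ
  let i : CIdx U := ⟨W, hWa, d, a, ha, m, e⟩
  obtain ⟨xp, hxπ, hxσ⟩ := hpt i K str ζ hζ hm
  let ρ : Spec (CommRingCat.of K) ⟶ (O i₀).toScheme := cpt ≫ pullback.fst _ _
  have hρA : ρ ≫ φG ≫ pullback.snd U.hom (AS d S ↘ S) = ptAS str fun j => ζ ^ e j := by
    simp only [ρ, Category.assoc]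
    rw [← reassoc_of% hψh, show hK ≫ pullback.snd U.hom (AS d S ↘ S) = AffineSpace.map _ str from
      pullback.lift_snd _ _ _, reassoc_of% hcψ]
    refine AffineSpace.hom_ext ?_ fun j => ?_
    · simp only [ptAS, Category.assoc, AffineSpace.map_over, AffineSpace.homOfVector_over_assoc,
        AffineSpace.homOfVector_over, Category.id_comp]
    · rw [Scheme.Hom.comp_appTop, CommRingCat.comp_apply, AffineSpace.map_appTop_coord, ptAS, ptAS,
        AffineSpace.homOfVector_appTop_coord, AffineSpace.homOfVector_appTop_coord]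
  let sG := (sW W).left ∣_ G i₀
  have hsA : φG ≫ pullback.snd U.hom (AS d S ↘ S) = sG ≫ (G i₀).ι ≫ a := by
    simp only [φG, sG, O, Category.assoc]
    rw [show φ i₀ ≫ pullback.snd U.hom (AS d S ↘ S) = (sW W).left ≫ a from hφ₂ i₀, morphismRestrict_ι_assoc]
  let vi : Spec (CommRingCat.of K) ⟶ V i := pullback.lift (ρ ≫ sG) xp (by
    rw [hxσ, Category.assoc]
    exact (congrArg (ρ ≫ ·) hsA.symm).trans hρA)
  have hρt : (ρ ≫ (O i₀).ι) ≫ (tW W).left = u.left := by
    simp only [ρ, Category.assoc]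
    rw [pullback.condition, ← reassoc_of% hψs, reassoc_of% hcψ, ptAS, ← Category.assoc]
    exact (congrArg (· ≫ u.left) (AffineSpace.homOfVector_over _ _)).trans (Category.id_comp _)
  let rr : KS ⟶ RW W := Over.homMk (ρ ≫ (O i₀).ι) (by
    change (ρ ≫ (O i₀).ι) ≫ (RW W).hom = str
    rw [← Over.w (tW W), ← Category.assoc, hρt, Over.w]; rfl)
  have e1 : (vi ≫ Sigma.ι V i) ≫ Limits.Sigma.desc qi = ((ρ ≫ (O i₀).ι) ≫ (sW W).left) ≫ W.ι := by
    rw [Category.assoc, Sigma.ι_desc]
    simp only [qi, vi, pullback.lift_fst_assoc, Category.assoc]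
    change ρ ≫ sG ≫ (G i₀).ι ≫ W.ι = ρ ≫ (O i₀).ι ≫ (sW W).left ≫ W.ι
    simp only [sG, O, morphismRestrict_ι_assoc]
    rfl
  let zz : KS ⟶ Z₀ := Over.homMk (vi ≫ Sigma.ι V i) (by
    rw [← Over.w q, ← Category.assoc]
    change ((vi ≫ Sigma.ι V i) ≫ Limits.Sigma.desc qi) ≫ U.hom = str
    rw [e1, Category.assoc, show ((ρ ≫ (O i₀).ι) ≫ (sW W).left) ≫ W.ι ≫ U.hom =
      (ρ ≫ (O i₀).ι) ≫ (RW W).hom by rw [Category.assoc]; exact congrArg _ (Over.w (sW W))]
    exact Over.w rr)
  refine ⟨zz, rr ≫ jW W, ?_, ?_⟩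
  · rw [Category.assoc, (sq W).w, ← Category.assoc]
    exact Over.OverMorphism.ext e1
  · rw [Category.assoc, htW]
    exact Over.OverMorphism.ext hρt

end Groth.Agent.QfSlice
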